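import Groth.Agent.EtFieldCrit.Main

/-!
Étale points and parameters.
-/

set_option autoImplicit false
set_option linter.style.haveILetI false

open IsLocalRing
open scoped TensorProduct

universe u

namespace Groth.Agent.EtFieldCrit

open KaehlerDifferential

section Local

variable (k : Type u) [Field k] (n : ℕ) (L : Type u) [CommRing L] [IsLocalRing L] [Algebra k L]
  [Algebra (MvPolynomial (Fin n) k) L] [IsScalarTower k (MvPolynomial (Fin n) k) L]
  [Algebra.EssFiniteType k L] (s : Set (Fin n))

theorem span_dX_eq_top_of_param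
    (hm : Ideal.span ((fun i => algebraMap (MvPolynomial (Fin n) k) L (MvPolynomial.X i)) '' s) = maximalIdeal L)
    (hres : Submodule.span (ResidueField L) ((fun i => D k (ResidueField L)
      (residue L (algebraMap (MvPolynomial (Fin n) k) L (MvPolynomial.X i)))) '' sᶜ) = ⊤) :
    Submodule.span L (Set.range (dX k n L)) = ⊤ := by
  rw [← IsLocalRing.map_tensorProduct_mk_eq_top, Submodule.map_span, ← Set.range_comp]
  set W := Submodule.span L (Set.range (TensorProduct.mk L (ResidueField L) Ω[L⁄k] 1 ∘ dX k n L))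
  let ψ : ResidueField L ⊗[L] Ω[L⁄k] →ₗ[L] Ω[ResidueField L⁄k] :=
    (mapBaseChange k L (ResidueField L)).restrictScalars L
  have hψ : ∀ i, ψ ((1 : ResidueField L) ⊗ₜ[L] dX k n L i) = D k (ResidueField L)
      (residue L (algebraMap (MvPolynomial (Fin n) k) L (MvPolynomial.X i))) := fun i => by
    show mapBaseChange k L (ResidueField L) _ = _
    rw [mapBaseChange_tmul, one_smul, map_D]
    rfl
  have hker : LinearMap.ker ψ ≤ W := by
    intro x hx
    have hx' : x ∈ (LinearMap.ker (mapBaseChange k L (ResidueField L))).restrictScalars L := hx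
    rw [← range_kerCotangentToTensor k L (ResidueField L) residue_surjective] at hx'
    obtain ⟨y, rfl⟩ := hx'
    obtain ⟨⟨a, ha⟩, rfl⟩ := Ideal.toCotangent_surjective _ y
    rw [kerCotangentToTensor_toCotangent]
    have ha' : a ∈ Ideal.span ((fun i => algebraMap (MvPolynomial (Fin n) k) L (MvPolynomial.X i)) '' s) := by
      rw [hm, ← ker_residue]; exact ha
    show (1 : ResidueField L) ⊗ₜ[L] D k L a ∈ W
    clear hx
    clear ha
    induction ha' using Submodule.span_induction with
    | mem a ha =>
      obtain ⟨i, -, rfl⟩ := ha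
      exact Submodule.subset_span ⟨i, rfl⟩
    | zero => simp
    | add a b _ _ ha hb => rw [map_add, TensorProduct.tmul_add]; exact add_mem ha hb
    | smul c a ha' ha =>
      have h0 : residue L a = 0 := (residue_eq_zero_iff a).2 (hm ▸ ha')
      rw [smul_eq_mul, Derivation.leibniz, TensorProduct.tmul_add, TensorProduct.tmul_smul,
        TensorProduct.tmul_smul, TensorProduct.smul_tmul' a, Algebra.smul_def a,
        ResidueField.algebraMap_eq, h0, zero_mul, TensorProduct.zero_tmul, add_zero]
      exact Submodule.smul_mem _ _ ha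
  have hmap : W.map ψ = ⊤ := by
    refine eq_top_iff.2 fun z _ => ?_
    have hz : z ∈ Submodule.span (ResidueField L) ((fun i => D k (ResidueField L)
      (residue L (algebraMap (MvPolynomial (Fin n) k) L (MvPolynomial.X i)))) '' sᶜ) := hres ▸ Submodule.mem_top
    rw [← Submodule.restrictScalars_mem L, Submodule.restrictScalars_span L (ResidueField L) residue_surjective] at hz
    refine Submodule.span_le.2 ?_ hz
    rintro _ ⟨i, -, rfl⟩
    exact ⟨_, Submodule.subset_span ⟨i, rfl⟩, hψ i⟩
  refine eq_top_iff.2 fun z _ => ?_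
  obtain ⟨w, hw, hwz⟩ : ψ z ∈ W.map ψ := hmap ▸ Submodule.mem_top
  have : z - w ∈ W := hker (by rw [LinearMap.mem_ker, map_sub, hwz, sub_self])
  simpa using add_mem this hw

omit [Algebra.EssFiniteType k L] in
theorem span_residue_of_span_dX (hspan : Submodule.span L (Set.range (dX k n L)) = ⊤)
    (hs : ∀ i ∈ s, algebraMap (MvPolynomial (Fin n) k) L (MvPolynomial.X i) ∈ maximalIdeal L) :
    Submodule.span (ResidueField L) ((fun i => D k (ResidueField L)
      (residue L (algebraMap (MvPolynomial (Fin n) k) L (MvPolynomial.X i)))) '' sᶜ) = ⊤ := by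
  refine eq_top_iff.2 fun z hz => ?_
  clear hz
  obtain ⟨w, rfl⟩ := KaehlerDifferential.map_surjective_of_surjective k k L (ResidueField L) residue_surjective z
  have hw : w ∈ Submodule.span L (Set.range (dX k n L)) := hspan ▸ Submodule.mem_top
  induction hw using Submodule.span_induction with
  | mem w hw =>
    obtain ⟨i, rfl⟩ := hw
    rw [map_D, ResidueField.algebraMap_eq]
    by_cases hi : i ∈ s
    · rw [(residue_eq_zero_iff _).2 (hs i hi), map_zero]; exact zero_mem _
    · exact Submodule.subset_span ⟨i, hi, rfl⟩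
  | zero => rw [map_zero]; exact zero_mem _
  | add a b _ _ ha hb => rw [map_add]; exact add_mem ha hb
  | smul c a _ ha => rw [map_smul, ← algebraMap_smul (ResidueField L) c]; exact Submodule.smul_mem _ _ ha

end Local

variable (k A : Type u) [Field k] [CommRing A] [Algebra k A] [Algebra.FiniteType k A] (n r : ℕ)
  [Algebra (MvPolynomial (Fin n) k) A] [IsScalarTower k (MvPolynomial (Fin n) k) A]
  (p : Ideal A) [p.IsPrime]

theorem span_eq_maximalIdeal_of_isEtaleAt
    (hn : FlatMor.localDim (PrimeSpectrum A) ⟨p, inferInstance⟩ = (n : WithBot ℕ∞))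
    (hr : ringKrullDim (Localization.AtPrime p) = (r : WithBot ℕ∞))
    (hg : ∀ i : Fin n, (i : ℕ) < r → algebraMap (MvPolynomial (Fin n) k) A (MvPolynomial.X i) ∈ p)
    (h : Algebra.IsEtaleAt (MvPolynomial (Fin n) k) p) :
    Ideal.span ((fun i : Fin n =>
      algebraMap (MvPolynomial (Fin n) k) (Localization.AtPrime p) (MvPolynomial.X i)) '' {i | (i : ℕ) < r}) =
      maximalIdeal (Localization.AtPrime p) := by
  classical
  let P := MvPolynomial (Fin n) k
  let L := Localization.AtPrime p
  let q : Ideal P := p.comap (algebraMap P A)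
  haveI : p.LiesOver q := ⟨rfl⟩
  letI := Localization.AtPrime.algebraOfLiesOver q p
  haveI : Algebra.FormallyEtale P L := h
  haveI : Algebra.FormallyUnramified (Localization.AtPrime q) L := Algebra.FormallyUnramified.of_restrictScalars P _ _
  haveI : Algebra.FiniteType P A := Algebra.FiniteType.of_restrictScalars_finiteType k _ A
  haveI : Algebra.EssFiniteType A L := Algebra.EssFiniteType.of_isLocalization L p.primeCompl
  haveI : Algebra.EssFiniteType P L := Algebra.EssFiniteType.comp P A L
  haveI : Algebra.EssFiniteType (Localization.AtPrime q) L := Algebra.EssFiniteType.of_comp P _ _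
  have hmap : q.map (algebraMap P L) = maximalIdeal L := by
    rw [IsScalarTower.algebraMap_eq P (Localization.AtPrime q) L, ← Ideal.map_map,
      Localization.AtPrime.map_eq_maximalIdeal]
    exact Algebra.FormallyUnramified.map_maximalIdeal
  set s : Set (Fin n) := {i | (i : ℕ) < r}
  let P₀ : Ideal P := Ideal.span ((MvPolynomial.X) '' s)
  suffices hP₀ : P₀ = q by
    rw [← hmap, ← hP₀, Ideal.map_span, Set.image_image]
  -- transcendence degrees
  obtain ⟨t, ht⟩ := DimFormulaLib.exists_nat_trdeg_quotient k A p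
  obtain ⟨a, ha, hd, -⟩ := DimFormulaLib.localDim_eq_height_add k A ⟨p, inferInstance⟩ t ht
  rw [hn] at hd
  rw [IsLocalization.AtPrime.ringKrullDim_eq_height p, show p.height = a from ha] at hr
  have har : a = r := by exact_mod_cast hr
  have hnt : n = a + t := by exact_mod_cast hd
  haveI : Module.Finite (ResidueField (Localization.AtPrime q)) (ResidueField L) :=
    Algebra.FormallyUnramified.finite_of_free _ _
  have htq : Algebra.trdeg k (P ⧸ q) = t := by
    rw [DimFormulaLib.trdeg_residueField k q]
    rw [DimFormulaLib.trdeg_residueField k p] at ht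
    rw [← ht, ← trdeg_add_eq k q.ResidueField (A := p.ResidueField),
      trdeg_eq_zero (R := q.ResidueField) (A := p.ResidueField), add_zero]
  have hdimq : ringKrullDim (P ⧸ q) = t := DimFormulaLib.ringKrullDim_eq_trdeg k t htq
  -- the coordinate subspace
  let σ := {i : Fin n // i ∉ s}
  let π : P →ₐ[k] MvPolynomial σ k :=
    MvPolynomial.aeval fun i => if h : i ∈ s then 0 else MvPolynomial.X ⟨i, h⟩
  let ι : MvPolynomial σ k →ₐ[k] P ⧸ P₀ :=
    MvPolynomial.aeval fun i => Ideal.Quotient.mk P₀ (MvPolynomial.X i.1)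
  have hιπ : ι.comp π = Ideal.Quotient.mkₐ k P₀ := MvPolynomial.algHom_ext fun i => by
    show ι (π (MvPolynomial.X i)) = _
    by_cases hi : i ∈ s
    · rw [show π (MvPolynomial.X i) = 0 from (MvPolynomial.aeval_X _ i).trans (dif_pos hi), map_zero]
      exact (Ideal.Quotient.eq_zero_iff_mem.2 (Ideal.subset_span ⟨i, hi, rfl⟩) :
        Ideal.Quotient.mk P₀ (MvPolynomial.X i) = 0).symm
    · rw [show π (MvPolynomial.X i) = MvPolynomial.X ⟨i, hi⟩ from (MvPolynomial.aeval_X _ i).trans (dif_neg hi)]
      exact MvPolynomial.aeval_X _ _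
  have hker : RingHom.ker π = P₀ := by
    refine le_antisymm (fun f hf => ?_) (Ideal.span_le.2 ?_)
    · rw [← Ideal.Quotient.eq_zero_iff_mem, ← Ideal.Quotient.mkₐ_eq_mk k, ← hιπ]
      exact (congrArg ι hf).trans (map_zero ι)
    · rintro _ ⟨i, hi, rfl⟩
      exact (MvPolynomial.aeval_X _ i).trans (dif_pos hi)
  haveI : P₀.IsPrime := hker ▸ RingHom.ker_isPrime π.toRingHom
  have hle : P₀ ≤ q := Ideal.span_le.2 (by rintro _ ⟨i, hi, rfl⟩; exact hg i hi)
  by_contra hne
  obtain ⟨x, hxq, hx⟩ := SetLike.exists_of_lt (lt_of_le_of_ne hle hne)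
  have h1 : ringKrullDim (P ⧸ q) + 1 ≤ ringKrullDim (P ⧸ P₀) :=
    ringKrullDim_succ_le_of_surjective (Ideal.Quotient.factor hle) (Ideal.Quotient.factor_surjective hle)
      (r := Ideal.Quotient.mk P₀ x)
      (mem_nonZeroDivisors_of_ne_zero fun h => hx (Ideal.Quotient.eq_zero_iff_mem.1 h))
      (by simpa [Ideal.Quotient.eq_zero_iff_mem] using hxq)
  have h2 : ringKrullDim (P ⧸ P₀) ≤ ringKrullDim (MvPolynomial σ k) := by
    refine ringKrullDim_le_of_surjective ι.toRingHom fun z => ?_
    obtain ⟨f, rfl⟩ := Ideal.Quotient.mk_surjective z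
    exact ⟨π f, AlgHom.congr_fun hιπ f⟩
  rw [MvPolynomial.ringKrullDim_of_isNoetherianRing, ringKrullDim_eq_zero_of_field, zero_add,
    Nat.card_eq_fintype_card] at h2
  have h3 : Fintype.card σ = n - r := by
    rw [Fintype.card_subtype_compl, Fintype.card_fin]
    congr 1
    rw [Fintype.card_subtype]
    calc _ = (Finset.univ.filter fun i : Fin n => (i : ℕ) < r).card := by congr
      _ = r := by rw [Fin.card_filter_val_lt]; omega
  rw [hdimq] at h1
  have h4 := h1.trans h2
  have h5 : t + 1 ≤ Fintype.card σ := by exact_mod_cast h4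
  omega

end Groth.Agent.EtFieldCrit
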