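import Groth.Agent.DimFormulaLib.LocalDim
import Groth.Agent.FieldExtLib.Imperfection
import Groth.Agent.FieldExtLib.Separable

/-!
Regular points with separable residue field.
-/

set_option autoImplicit false
set_option linter.style.haveILetI false

open IsLocalRing
open scoped TensorProduct

universe u

namespace Groth.Agent.EtFieldCrit

variable (k A : Type u) [Field k] [CommRing A] [Algebra k A] [Algebra.FiniteType k A] (p : Ideal A) [p.IsPrime]

theorem exists_trdeg (n r : ℕ)
    (hn : FlatMor.localDim (PrimeSpectrum A) ⟨p, inferInstance⟩ = (n : WithBot ℕ∞))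
    (hr : ringKrullDim (Localization.AtPrime p) = (r : WithBot ℕ∞)) :
    ∃ t : ℕ, n = r + t ∧ Algebra.trdeg k p.ResidueField = t := by
  obtain ⟨t, ht⟩ := DimFormulaLib.exists_nat_trdeg_quotient k A p
  obtain ⟨a, ha, hd, -⟩ := DimFormulaLib.localDim_eq_height_add k A ⟨p, inferInstance⟩ t ht
  rw [hn] at hd
  rw [IsLocalization.AtPrime.ringKrullDim_eq_height p, show p.height = a from ha] at hr
  have har : a = r := by exact_mod_cast hr
  have hnt : n = a + t := by exact_mod_cast hd
  exact ⟨t, har ▸ hnt, (DimFormulaLib.trdeg_residueField k p).symm.trans ht⟩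

theorem essFiniteType_residueField : Algebra.EssFiniteType k p.ResidueField := by
  haveI : Algebra.EssFiniteType A (Localization.AtPrime p) :=
    Algebra.EssFiniteType.of_isLocalization (Localization.AtPrime p) p.primeCompl
  haveI : Algebra.EssFiniteType k (Localization.AtPrime p) := Algebra.EssFiniteType.comp k A _
  haveI : Algebra.FiniteType (Localization.AtPrime p) p.ResidueField :=
    Algebra.FiniteType.of_surjective (Algebra.ofId (Localization.AtPrime p) p.ResidueField) residue_surjective
  exact Algebra.EssFiniteType.comp k (Localization.AtPrime p) _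

theorem isGeometricallyReduced_of_span (n r t : ℕ) (hnt : n = r + t) (ht : Algebra.trdeg k p.ResidueField = t)
    (y : Fin n → p.ResidueField)
    (hy : Submodule.span p.ResidueField ((fun i => KaehlerDifferential.D k p.ResidueField (y i)) ''
      {i : Fin n | r ≤ (i : ℕ)}) = ⊤) :
    Algebra.IsGeometricallyReduced k p.ResidueField := by
  classical
  haveI := essFiniteType_residueField k A p
  obtain ⟨hfin, hrank⟩ := FieldExtLib.finrank_kaehler_eq k p.ResidueField
  rw [ht, Cardinal.toNat_natCast] at hrank
  let s : Finset (Fin n) := {i | r ≤ (i : ℕ)}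
  have hcard : s.card ≤ t := by
    have : s ⊆ (Finset.univ : Finset (Fin t)).image (fun j : Fin t => (⟨r + j, by omega⟩ : Fin n)) := by
      intro i hi
      simp only [s, Finset.mem_filter, Finset.mem_univ, true_and] at hi
      exact Finset.mem_image.2 ⟨⟨(i : ℕ) - r, by omega⟩, Finset.mem_univ _, Fin.ext (by simp; omega)⟩
    simpa using (Finset.card_le_card this).trans Finset.card_image_le
  have hle : Module.finrank p.ResidueField (KaehlerDifferential k p.ResidueField) ≤ t := by
    have h1 := finrank_span_finset_le_card (R := p.ResidueField)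
      (s.image fun i => KaehlerDifferential.D k p.ResidueField (y i))
    rw [Set.finrank, Finset.coe_image, show (s : Set (Fin n)) = {i : Fin n | r ≤ (i : ℕ)} by simp [s], hy,
      finrank_top] at h1
    exact h1.trans (Finset.card_image_le.trans hcard)
  haveI : Subsingleton (Algebra.H1Cotangent k p.ResidueField) :=
    Module.finrank_zero_iff.1 (show Module.finrank p.ResidueField (Algebra.H1Cotangent k p.ResidueField) = 0 by omega)
  exact FieldExtLib.formallySmooth_iff_isGeometricallyReduced.1 ⟨inferInstance, inferInstance⟩

theorem exists_residue_basis (t : ℕ) (ht : Algebra.trdeg k p.ResidueField = t)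
    [hg : Algebra.IsGeometricallyReduced k p.ResidueField] :
    ∃ y : Fin t → p.ResidueField,
      Submodule.span p.ResidueField (Set.range fun i => KaehlerDifferential.D k p.ResidueField (y i)) = ⊤ := by
  classical
  haveI := essFiniteType_residueField k A p
  obtain ⟨hfin, hrank⟩ := FieldExtLib.finrank_kaehler_eq k p.ResidueField
  rw [ht, Cardinal.toNat_natCast] at hrank
  haveI : Algebra.FormallySmooth k p.ResidueField := FieldExtLib.formallySmooth_iff_isGeometricallyReduced.2 hg
  rw [Module.finrank_zero_of_subsingleton (M := Algebra.H1Cotangent k p.ResidueField), zero_add] at hrank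
  obtain ⟨b, hbsub, hbspan, hbli⟩ := exists_linearIndependent p.ResidueField
    (Set.range (KaehlerDifferential.D k p.ResidueField))
  rw [KaehlerDifferential.span_range_derivation] at hbspan
  haveI : Fintype b := hbli.setFinite.fintype
  have hb : Fintype.card b = t := by
    rw [← hrank]
    exact (Module.finrank_eq_card_basis (Module.Basis.mk hbli (by rw [Subtype.range_coe, hbspan]))).symm
  let e : Fin t ≃ b := ((Fintype.equivFin b).trans (finCongr hb)).symm
  choose y hy using fun i => hbsub (e i).2
  refine ⟨y, eq_top_iff.2 (hbspan.ge.trans (Submodule.span_mono fun z hz => ⟨e.symm ⟨z, hz⟩, ?_⟩))⟩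
  show KaehlerDifferential.D k p.ResidueField (y (e.symm ⟨z, hz⟩)) = z
  rw [hy, Equiv.apply_symm_apply]

end Groth.Agent.EtFieldCrit
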